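import Mathlib
import Cfsg.Agent.Prune
set_option linter.all false

section
prune_inst 0x7f00000000000000000000000000000000000000000000000000000000000000000000000000000000000000000000000000000000000000000000000000000000000000000000000000000000000000003fffffffffffffffffffffffffffbeffbdffffffff

-- part: H391/HT/NumP
section
set_option linter.all false
open scoped Cfsg.Agent.FastGrp

/-!
# S3512, quasisimple rows: the numerical conditions when `p ∣ |G|`

`CP o A n q m h`: `h ≥ 2`, `m ∣ q ^ n - 1`, `m < q ^ n - 1`, `o ∣ m * h ∣ (q - 1) * A`,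
`(h - 1) * q ^ n ≤ h * m ^ 2` and helper192's inequality (III').
`sieveP`: kernel-checked search over all `n ≥ n₀` and all `q = p ^ k`, `k ≥ 1`; every solution `(n, q, m)` lies in an
explicit list.
-/

set_option autoImplicit false

namespace Cfsg.Agent.H391.HT

/-- the numerical conditions -/
def CP (o A n q m h : ℕ) : Prop :=
  2 ≤ h ∧ m ∣ q ^ n - 1 ∧ m < q ^ n - 1 ∧ o ∣ m * h ∧ m * h ∣ (q - 1) * A ∧
    (h - 1) * q ^ n ≤ h * m ^ 2 ∧
    (q ^ n) ^ 2 * h ≤ (q ^ n + (m - 1) * (m - 2)) * (q ^ n + (h - 1) * (m - 1))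

theorem CP.le_two {o A n q m h : ℕ} (hc : CP o A n q m h) : q ^ n ≤ 2 * m ^ 2 := by
  obtain ⟨h2, -, -, -, -, hle, -⟩ := hc
  obtain ⟨k, rfl⟩ : ∃ k, h = k + 2 := ⟨h - 2, by omega⟩
  have h3 : (k + 1) * q ^ n ≤ (k + 1) * (2 * m ^ 2) := by
    calc (k + 1) * q ^ n ≤ (k + 2) * m ^ 2 := hle
      _ ≤ (k + 1) * (2 * m ^ 2) := by nlinarith [Nat.zero_le (k * m ^ 2)]
  exact Nat.le_of_mul_le_mul_left h3 (by omega)

/-- size bound with the `p'`-part `A'` of `A` -/
theorem CP.pow_lt {p a k o A A' n m h : ℕ} (hp : p.Prime) (hA : A = p ^ a * A') (hA0 : 0 < A') (hk : 1 ≤ k)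
    (hn : 2 ≤ n) (hc : CP o A n (p ^ k) m h) : (p ^ k) ^ (n - 2) < 2 * A' ^ 2 := by
  have hle := hc.le_two
  obtain ⟨h2, hm, hlt, -, hd, -, -⟩ := hc
  have hq : 2 ≤ p ^ k := hp.two_le.trans (Nat.le_self_pow (by omega) p)
  have hcop : m.Coprime p := by
    rw [Nat.coprime_comm, hp.coprime_iff_not_dvd]
    intro h1
    have h4 : p ∣ (p ^ k) ^ n := dvd_pow (dvd_pow_self p (by omega)) (by omega)
    have h5 : p ∣ (p ^ k) ^ n - 1 := h1.trans hm
    have h6 : 1 ≤ (p ^ k) ^ n := Nat.one_le_pow _ _ (by omega)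
    have h7 : p ∣ 1 := by
      have := (Nat.dvd_sub h4 h5)
      rwa [show (p ^ k) ^ n - ((p ^ k) ^ n - 1) = 1 by omega] at this
    exact hp.one_lt.ne' (Nat.dvd_one.1 h7)
  have h8 : m ∣ (p ^ k - 1) * A := (Dvd.intro _ rfl).trans hd
  have h9 : m ∣ (p ^ k - 1) * A' := by
    have : m ∣ p ^ a * ((p ^ k - 1) * A') := by
      rw [hA] at h8
      convert h8 using 1
      ring
    exact (Nat.Coprime.pow_right a hcop).dvd_of_dvd_mul_left this
  have hpos : 0 < (p ^ k - 1) * A' := Nat.mul_pos (by omega) hA0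
  have h10 : m ≤ (p ^ k - 1) * A' := Nat.le_of_dvd hpos h9
  have h11 : (p ^ k) ^ n ≤ 2 * ((p ^ k - 1) * A') ^ 2 :=
    hle.trans (Nat.mul_le_mul_left 2 (Nat.pow_le_pow_left h10 2))
  have h12 : 2 * ((p ^ k - 1) * A') ^ 2 < (p ^ k) ^ 2 * (2 * A' ^ 2) := by
    rw [mul_pow]
    have : (p ^ k - 1) ^ 2 < (p ^ k) ^ 2 := Nat.pow_lt_pow_left (by omega) (by norm_num)
    calc 2 * ((p ^ k - 1) ^ 2 * A' ^ 2) = (p ^ k - 1) ^ 2 * (2 * A' ^ 2) := by ring
      _ < (p ^ k) ^ 2 * (2 * A' ^ 2) := Nat.mul_lt_mul_of_pos_right this (by positivity)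
  have h13 : (p ^ k) ^ n = (p ^ k) ^ 2 * (p ^ k) ^ (n - 2) := by
    rw [← pow_add]; congr 1; omega
  rw [h13] at h11
  exact Nat.lt_of_mul_lt_mul_left (h11.trans_lt h12)

/-- one pair `(m, g)`, `g` the least possible `h` -/
def bad (N m g : ℕ) : Bool :=
  Nat.blt (m ^ 2 * g) ((g - 1) * N) ||
    (Nat.blt ((N + (m - 1) * (m - 2)) * (m - 1)) (N ^ 2) &&
      Nat.blt ((N + (m - 1) * (m - 2)) * (N + (g - 1) * (m - 1))) (N ^ 2 * g))

theorem bad_spec {N m g h : ℕ} (hg : 2 ≤ g) (hgh : g ≤ h) (hb : bad N m g = true)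
    (h1 : (h - 1) * N ≤ h * m ^ 2)
    (h2 : N ^ 2 * h ≤ (N + (m - 1) * (m - 2)) * (N + (h - 1) * (m - 1))) : False := by
  rw [bad, Bool.or_eq_true, Bool.and_eq_true, Nat.blt_eq, Nat.blt_eq, Nat.blt_eq] at hb
  obtain ⟨g, rfl⟩ : ∃ x, g = x + 1 := ⟨g - 1, by omega⟩
  obtain ⟨d, rfl⟩ : ∃ x, h = g + 1 + x := ⟨h - (g + 1), by omega⟩
  rw [show g + 1 + d - 1 = g + d by omega] at h1 h2
  rw [Nat.add_sub_cancel] at hb
  rcases hb with hb | ⟨hb1, hb2⟩
  · -- m^2 (g+1) < g N, (g+d) N <= (g+1+d) m^2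
    have e1 : (g + 1) * ((g + d) * N) ≤ (g + 1) * ((g + 1 + d) * m ^ 2) := Nat.mul_le_mul_left _ h1
    have e2 : (g + 1 + d) * (m ^ 2 * (g + 1)) < (g + 1 + d) * (g * N) :=
      Nat.mul_lt_mul_of_pos_left hb (by omega)
    have e3 : (g + 1 + d) * (g * N) ≤ (g + 1) * ((g + d) * N) := by
      have : (g + 1 + d) * g ≤ (g + 1) * (g + d) := by nlinarith
      calc (g + 1 + d) * (g * N) = (g + 1 + d) * g * N := by ring
        _ ≤ (g + 1) * (g + d) * N := Nat.mul_le_mul_right _ this
        _ = _ := by ring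
    have e4 : (g + 1) * ((g + 1 + d) * m ^ 2) = (g + 1 + d) * (m ^ 2 * (g + 1)) := by ring
    omega
  · obtain ⟨a, ha⟩ : ∃ x, N + (m - 1) * (m - 2) = x := ⟨_, rfl⟩
    obtain ⟨b, hb'⟩ : ∃ x, m - 1 = x := ⟨_, rfl⟩
    rw [ha, hb'] at hb1 hb2 h2
    have e1 : a * (N + (g + d) * b) = a * (N + g * b) + d * (a * b) := by ring
    have e2 : d * (a * b) ≤ d * N ^ 2 := Nat.mul_le_mul_left _ hb1.le
    have e3 : N ^ 2 * (g + 1 + d) = N ^ 2 * (g + 1) + d * N ^ 2 := by ring
    omega

/-- membership test in a list of triples -/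
def memb (n q m : ℕ) : List (ℕ × ℕ × ℕ) → Bool
  | [] => false
  | x :: l => (Nat.beq x.1 n && (Nat.beq x.2.1 q && Nat.beq x.2.2 m)) || memb n q m l

theorem memb_spec {n q m : ℕ} : ∀ {l : List (ℕ × ℕ × ℕ)}, memb n q m l = true → (n, q, m) ∈ l
  | [], h => Bool.noConfusion h
  | x :: l, h => by
    rw [memb, Bool.or_eq_true, Bool.and_eq_true, Bool.and_eq_true, Nat.beq_eq, Nat.beq_eq, Nat.beq_eq] at h
    rcases h with ⟨h1, h2, h3⟩ | h
    · obtain ⟨a, b, c⟩ := x
      simp only at h1 h2 h3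
      subst h1 h2 h3
      exact List.mem_cons_self
    · exact List.mem_cons_of_mem _ (memb_spec h)

/-- all divisors `m = M / t` of `M` with `q ^ n ≤ 2 * m ^ 2` -/
def chk (ex : List (ℕ × ℕ × ℕ)) (o n q N M : ℕ) : ℕ → ℕ → Bool
  | 0, t => Nat.blt (2 * (M / t) ^ 2) N
  | f + 1, t =>
    bif Nat.blt (2 * (M / t) ^ 2) N then true
    else bif Nat.beq (M % t) 0 then
      bif (Nat.beq (M / t) (N - 1) ||
          (bad N (M / t) (Nat.max 2 (o / Nat.gcd o (M / t))) || memb n q (M / t) ex)) then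
        chk ex o n q N M f (t + 1) else false
    else chk ex o n q N M f (t + 1)

theorem chk_spec {ex : List (ℕ × ℕ × ℕ)} {o A n q N M : ℕ} (hN : N = q ^ n) :
    ∀ (f t : ℕ), 1 ≤ t → chk ex o n q N M f t = true → ∀ m h s, t ≤ s → M = m * s →
      CP o A n q m h → (n, q, m) ∈ ex
  | 0, t, ht, hc, m, h, s, hts, hM, hcp => by
    rw [chk, Nat.blt_eq] at hc
    have h1 : m ≤ M / t := by
      rw [Nat.le_div_iff_mul_le (by omega), hM]
      exact Nat.mul_le_mul_left _ hts
    have h2 := hcp.le_two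
    have h3 : m ^ 2 ≤ (M / t) ^ 2 := Nat.pow_le_pow_left h1 2
    omega
  | f + 1, t, ht, hc, m, h, s, hts, hM, hcp => by
    rw [chk] at hc
    cases h1 : Nat.blt (2 * (M / t) ^ 2) N with
    | true =>
      rw [Nat.blt_eq] at h1
      have h1' : m ≤ M / t := by
        rw [Nat.le_div_iff_mul_le (by omega), hM]
        exact Nat.mul_le_mul_left _ hts
      have h2 := hcp.le_two
      have h3 : m ^ 2 ≤ (M / t) ^ 2 := Nat.pow_le_pow_left h1' 2
      omega
    | false =>
      rw [h1, cond_false] at hc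
      rcases hts.eq_or_lt with rfl | hlt
      · have h4 : Nat.beq (M % t) 0 = true := by
          rw [Nat.beq_eq, hM]
          exact Nat.mul_mod_left m t
        have h5 : M / t = m := by rw [hM]; exact Nat.mul_div_cancel _ (by omega)
        rw [h4, cond_true, h5] at hc
        cases h6 : (Nat.beq m (N - 1) || (bad N m (Nat.max 2 (o / Nat.gcd o m)) || memb n q m ex)) with
        | false => rw [h6, cond_false] at hc; exact Bool.noConfusion hc
        | true =>
          rw [Bool.or_eq_true, Bool.or_eq_true, Nat.beq_eq] at h6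
          rcases h6 with h6 | h6 | h6
          · exact absurd hcp.2.2.1 (by rw [← hN, h6]; exact lt_irrefl _)
          · exfalso
            obtain ⟨g2, -, hlt0, hd, -, i1, i2⟩ := id hcp
            rw [← hN] at i1 i2
            refine bad_spec (le_max_left _ _) (max_le g2 ?_) h6 i1 i2
            have hgp : 0 < Nat.gcd o m := by
              rcases Nat.eq_zero_or_pos (Nat.gcd o m) with h0 | h0
              · rw [Nat.gcd_eq_zero_iff] at h0
                exfalso
                rw [h0.2] at i1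
                have : 1 ≤ N := by
                  rw [← hN] at hlt0
                  omega
                have h7 : 1 * 1 ≤ (h - 1) * N := Nat.mul_le_mul (by omega) this
                simp at i1
                rcases i1 with i1 | i1 <;> omega
              · exact h0
            have h7 : o / Nat.gcd o m ∣ h := by
              have h8 : o / Nat.gcd o m ∣ (m / Nat.gcd o m) * h := by
                rw [← Nat.mul_dvd_mul_iff_left hgp, Nat.mul_div_cancel' (Nat.gcd_dvd_left _ _), ← mul_assoc,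
                  Nat.mul_div_cancel' (Nat.gcd_dvd_right _ _)]
                exact hd
              exact (Nat.coprime_div_gcd_div_gcd hgp).dvd_of_dvd_mul_left h8
            exact Nat.le_of_dvd (by omega) h7
          · exact memb_spec h6
      · have h4 : chk ex o n q N M f (t + 1) = true := by
          cases h5 : Nat.beq (M % t) 0 with
          | false => rwa [h5, cond_false] at hc
          | true =>
            rw [h5, cond_true] at hc
            cases h6 : (Nat.beq (M / t) (N - 1) ||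
              (bad N (M / t) (Nat.max 2 (o / Nat.gcd o (M / t))) || memb n q (M / t) ex)) with
            | false => rw [h6, cond_false] at hc; exact Bool.noConfusion hc
            | true => rwa [h6, cond_true] at hc
        exact chk_spec hN f (t + 1) (by omega) h4 m h s hlt hM hcp

/-- search over `q = p ^ k` -/
def loopK (ex : List (ℕ × ℕ × ℕ)) (p o A B n ft : ℕ) : ℕ → ℕ → Bool
  | 0, q => Nat.ble B (q ^ (n - 2))
  | f + 1, q =>
    bif Nat.ble B (q ^ (n - 2)) then true
    else bif chk ex o n q (q ^ n) (Nat.gcd ((q - 1) * A) (q ^ n - 1)) ft 1 then loopK ex p o A B n ft f (q * p)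
    else false

/-- search over `n` -/
def loopN (ex : List (ℕ × ℕ × ℕ)) (p o A B ft fk : ℕ) : ℕ → ℕ → Bool
  | 0, n => Nat.ble B (p ^ (n - 2))
  | f + 1, n =>
    bif Nat.ble B (p ^ (n - 2)) then true
    else bif loopK ex p o A B n ft fk p then loopN ex p o A B ft fk f (n + 1) else false

theorem loopK_spec {ex : List (ℕ × ℕ × ℕ)} {p a o A A' n ft : ℕ} (hp : p.Prime) (hA : A = p ^ a * A')
    (hA0 : 0 < A') (hn : 3 ≤ n) : ∀ (f k₀ : ℕ), 1 ≤ k₀ →
    loopK ex p o A (2 * A' ^ 2) n ft f (p ^ k₀) = true → ∀ k m h, k₀ ≤ k → CP o A n (p ^ k) m h →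
      (n, p ^ k, m) ∈ ex
  | 0, k₀, hk₀, hl, k, m, h, hk, hc => by
    exfalso
    rw [loopK] at hl
    have h1 := Nat.le_of_ble_eq_true hl
    have h2 := hc.pow_lt hp hA hA0 (hk₀.trans hk) (by omega)
    have h3 : (p ^ k₀) ^ (n - 2) ≤ (p ^ k) ^ (n - 2) :=
      Nat.pow_le_pow_left (Nat.pow_le_pow_right hp.pos hk) _
    omega
  | f + 1, k₀, hk₀, hl, k, m, h, hk, hc => by
    rw [loopK] at hl
    cases h1 : Nat.ble (2 * A' ^ 2) ((p ^ k₀) ^ (n - 2)) with
    | true =>
      exfalso
      have h1' := Nat.le_of_ble_eq_true h1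
      have h2 := hc.pow_lt hp hA hA0 (hk₀.trans hk) (by omega)
      have h3 : (p ^ k₀) ^ (n - 2) ≤ (p ^ k) ^ (n - 2) :=
        Nat.pow_le_pow_left (Nat.pow_le_pow_right hp.pos hk) _
      omega
    | false =>
      rw [h1, cond_false] at hl
      cases h5 : chk ex o n (p ^ k₀) ((p ^ k₀) ^ n)
        (Nat.gcd ((p ^ k₀ - 1) * A) ((p ^ k₀) ^ n - 1)) ft 1 with
      | false => rw [h5, cond_false] at hl; exact Bool.noConfusion hl
      | true =>
        rw [h5, cond_true] at hl
        rcases hk.eq_or_lt with rfl | hlt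
        · have hm : m ∣ Nat.gcd ((p ^ k₀ - 1) * A) ((p ^ k₀) ^ n - 1) :=
            Nat.dvd_gcd ((Dvd.intro _ rfl).trans hc.2.2.2.2.1) hc.2.1
          obtain ⟨s, hs⟩ := hm
          have hgpos : 0 < Nat.gcd ((p ^ k₀ - 1) * A) ((p ^ k₀) ^ n - 1) := by
            apply Nat.gcd_pos_of_pos_left
            refine Nat.mul_pos ?_ ?_
            · have : 2 ≤ p ^ k₀ := hp.two_le.trans (Nat.le_self_pow (by omega) p)
              omega
            · rw [hA]; exact Nat.mul_pos (pow_pos hp.pos _) hA0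
          have hs1 : 1 ≤ s := by
            rcases Nat.eq_zero_or_pos s with h0 | h0
            · rw [h0, mul_zero] at hs; omega
            · exact h0
          exact chk_spec rfl ft 1 le_rfl h5 m h s hs1 hs hc
        · rw [← pow_succ] at hl
          exact loopK_spec hp hA hA0 hn f (k₀ + 1) (by omega) hl k m h hlt hc

theorem loopN_spec {ex : List (ℕ × ℕ × ℕ)} {p a o A A' ft fk : ℕ} (hp : p.Prime) (hA : A = p ^ a * A')
    (hA0 : 0 < A') : ∀ (f n₀ : ℕ), 3 ≤ n₀ →
    loopN ex p o A (2 * A' ^ 2) ft fk f n₀ = true → ∀ n k m h, n₀ ≤ n → 1 ≤ k → CP o A n (p ^ k) m h →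
      (n, p ^ k, m) ∈ ex
  | 0, n₀, hn₀, hl, n, k, m, h, hn, hk, hc => by
    exfalso
    rw [loopN] at hl
    have h1 := Nat.le_of_ble_eq_true hl
    have h2 := hc.pow_lt hp hA hA0 hk (by omega)
    have h3 : p ^ (n₀ - 2) ≤ (p ^ k) ^ (n - 2) :=
      (Nat.pow_le_pow_right hp.pos (by omega)).trans
        (Nat.pow_le_pow_left (Nat.le_self_pow (by omega) p) _)
    omega
  | f + 1, n₀, hn₀, hl, n, k, m, h, hn, hk, hc => by
    rw [loopN] at hl
    cases h1 : Nat.ble (2 * A' ^ 2) (p ^ (n₀ - 2)) with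
    | true =>
      exfalso
      have h1' := Nat.le_of_ble_eq_true h1
      have h2 := hc.pow_lt hp hA hA0 hk (by omega)
      have h3 : p ^ (n₀ - 2) ≤ (p ^ k) ^ (n - 2) :=
        (Nat.pow_le_pow_right hp.pos (by omega)).trans
          (Nat.pow_le_pow_left (Nat.le_self_pow (by omega) p) _)
      omega
    | false =>
      rw [h1, cond_false] at hl
      cases h5 : loopK ex p o A (2 * A' ^ 2) n₀ ft fk p with
      | false => rw [h5, cond_false] at hl; exact Bool.noConfusion hl
      | true =>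
        rw [h5, cond_true] at hl
        rcases hn.eq_or_lt with rfl | hlt
        · exact loopK_spec hp hA hA0 hn₀ fk 1 le_rfl (by rwa [pow_one]) k m h hk hc
        · exact loopN_spec hp hA hA0 f (n₀ + 1) (by omega) hl n k m h hlt hk hc

end Cfsg.Agent.H391.HT

private theorem dce_838eb3ddad7c : _root_.True := by
  try have : _root_.True := by simp only [_root_.Cfsg.Agent.H391.HT.loopK.eq_1]
  try have : _root_.True := by simp only [_root_.Cfsg.Agent.H391.HT.loopK.eq_def]
  try have : _root_.True := by simp only [_root_.Cfsg.Agent.H391.HT.loopK.eq_2]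
  try have : _root_.True := by simp only [_root_.Cfsg.Agent.H391.HT.chk.eq_1]
  try have : _root_.True := by simp only [_root_.Cfsg.Agent.H391.HT.bad.eq_1]
  try have : _root_.True := by simp only [_root_.Cfsg.Agent.H391.HT.memb.eq_2]
  try have : _root_.True := by simp only [_root_.Cfsg.Agent.H391.HT.chk.eq_2]
  try have : _root_.True := by simp only [_root_.Cfsg.Agent.H391.HT.loopN.eq_def]
  try have : _root_.True := by simp only [_root_.Cfsg.Agent.H391.HT.memb.eq_1]
  try have : _root_.True := by simp only [_root_.Cfsg.Agent.H391.HT.memb.eq_def]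
  try have : _root_.True := by simp only [_root_.Cfsg.Agent.H391.HT.loopN.eq_2]
  try have : _root_.True := by simp only [_root_.Cfsg.Agent.H391.HT.chk.eq_def]
  try have : _root_.True := by simp only [_root_.Cfsg.Agent.H391.HT.loopN.eq_1]
  exact _root_.True.intro
end

-- part: H337/HT/NumP
section
set_option linter.all false
open scoped Cfsg.Agent.FastGrp

/-!
# S3512, quasisimple rows with `p ∣ |L|`: the numerical conditions on a simple group

`DeadP p n T`: no solution of helper391's conditions `CP` for `o = |T|`, `A = |Aut T|`, degree `n` and `q = p ^ k`.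

* `deadP_of_pow`: `2 * A ^ 2 ≤ b ^ (n - 2)`, `b ≤ p`;
* `deadP_sieve`: the kernel-checked search for all primes `p ≠ r` dividing `|T|` and all `n ≥ n₀`;
* `deadP_sieve1`: the same for a list of `n`.
-/

set_option autoImplicit false

universe u v

namespace Cfsg.Agent.H337.HT

open Cfsg.Agent.H391.HT

/-- no candidate, characteristic `p` -/
def DeadP (p n : ℕ) (T : Type u) [Group T] : Prop :=
  ∀ k m h, 1 ≤ k → ¬ CP (Nat.card T) (Nat.card (MulAut T)) n (p ^ k) m h

theorem DeadP.congr {p n : ℕ} {T : Type u} {T' : Type v} [Group T] [Group T'] (e : T ≃* T') (h : DeadP p n T) :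
    DeadP p n T' := by
  have h1 : Nat.card T' = Nat.card T := (Nat.card_congr e.toEquiv).symm
  have h2 : Nat.card (MulAut T') = Nat.card (MulAut T) := (Nat.card_congr (MulAut.congr e).toEquiv).symm
  intro k m h' hk
  rw [h1, h2]
  exact h k m h' hk

theorem CP.of_dvd {o A A' n q m h : ℕ} (hA : A ∣ A') (hc : CP o A n q m h) : CP o A' n q m h := by
  obtain ⟨h1, h2, h3, h4, h5, h6⟩ := hc
  exact ⟨h1, h2, h3, h4, h5.trans (Nat.mul_dvd_mul_left _ hA), h6⟩

/-- **large degree** -/
theorem deadP_of_pow {p n b A : ℕ} {T : Type u} [Group T] (hp : p.Prime) (hn : 2 ≤ n) (hb : b ≤ p)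
    (hA : Nat.card (MulAut T) ≤ A) (hA0 : 0 < Nat.card (MulAut T)) (h : 2 * A ^ 2 ≤ b ^ (n - 2)) : DeadP p n T := by
  intro k m h' hk hc
  have h1 := hc.pow_lt hp (a := 0) (A' := Nat.card (MulAut T)) (by rw [pow_zero, one_mul]) hA0 hk hn
  have h2 : b ^ (n - 2) ≤ (p ^ k) ^ (n - 2) :=
    Nat.pow_le_pow_left (hb.trans (Nat.le_self_pow (by omega) p)) _
  have h3 : Nat.card (MulAut T) ^ 2 ≤ A ^ 2 := Nat.pow_le_pow_left hA 2
  omega

/-! ### The search -/

/-- split off the powers of `p` -/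
def strp (p : ℕ) : ℕ → ℕ → ℕ → ℕ × ℕ
  | 0, a, A => (a, A)
  | f + 1, a, A => bif Nat.beq (A % p) 0 then strp p f (a + 1) (A / p) else (a, A)

/-- the search for one prime -/
def oneP (o A n₀ p : ℕ) : Bool :=
  let s := strp p 400 0 A
  Nat.beq A (p ^ s.1 * s.2) && (Nat.blt 0 s.2 && loopN [] p o A (2 * s.2 ^ 2) 400 4000 4000 n₀)

/-- divide `o` by all powers of the members of the list -/
def strAll : List ℕ → ℕ → ℕ
  | [], o => o
  | p :: l, o => strAll l (strp p 400 0 o).2

/-- the search for all primes of the list; all prime divisors of `o` are `r` or in the list -/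
def chkP (r : ℕ) (ps : List ℕ) (o A n₀ : ℕ) : Bool :=
  Nat.beq (strAll (r :: ps) o) 1 && (Nat.ble 3 n₀ && ps.all (oneP o A n₀))

theorem strp_dvd (p : ℕ) : ∀ (f a A : ℕ), ∃ b, A = p ^ b * (strp p f a A).2
  | 0, a, A => ⟨0, by rw [strp, pow_zero, one_mul]⟩
  | f + 1, a, A => by
    rw [strp]
    cases h : Nat.beq (A % p) 0 with
    | false => exact ⟨0, by rw [cond_false, pow_zero, one_mul]⟩
    | true =>
      rw [cond_true]
      obtain ⟨b, hb⟩ := strp_dvd p f (a + 1) (A / p)
      rw [Nat.beq_eq] at h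
      refine ⟨b + 1, ?_⟩
      rw [pow_succ, mul_comm (p ^ b) p, mul_assoc, ← hb, Nat.mul_div_cancel' (Nat.dvd_of_mod_eq_zero h)]

theorem mem_of_strAll {t : ℕ} (ht : t.Prime) : ∀ (l : List ℕ) (o : ℕ), (∀ p ∈ l, p.Prime) → strAll l o = 1 →
    t ∣ o → t ∈ l
  | [], o, _, h, hd => by
    rw [strAll] at h
    rw [h] at hd
    exact absurd (Nat.dvd_one.1 hd) ht.one_lt.ne'
  | p :: l, o, hl, h, hd => by
    rw [strAll] at h
    obtain ⟨b, hb⟩ := strp_dvd p 400 0 o
    rw [hb] at hd
    rcases (Nat.Prime.dvd_mul ht).1 hd with h1 | h1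
    · have h2 : t ∣ p := ht.dvd_of_dvd_pow h1
      rw [(Nat.prime_dvd_prime_iff_eq ht (hl p List.mem_cons_self)).1 h2]
      exact List.mem_cons_self
    · exact List.mem_cons_of_mem _ (mem_of_strAll ht l _ (fun q hq => hl q (List.mem_cons_of_mem _ hq)) h h1)

theorem oneP_spec {o A n₀ p : ℕ} (hp : p.Prime) (h3 : 3 ≤ n₀) (h1 : oneP o A n₀ p = true)
    {n k m h : ℕ} (hn : n₀ ≤ n) (hk : 1 ≤ k) : ¬ CP o A n (p ^ k) m h := by
  intro hc
  rw [oneP, Bool.and_eq_true, Bool.and_eq_true, Nat.beq_eq, Nat.blt_eq] at h1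
  obtain ⟨h2, h4, h5⟩ := h1
  have := loopN_spec hp h2 h4 4000 n₀ h3 h5 n k m h hn hk hc
  exact absurd this List.not_mem_nil

/-- **the search** for all primes `p ≠ r` dividing `|T|`, all `n ≥ n₀` -/
theorem deadP_sieve {T : Type u} [Group T] (r : ℕ) (ps : List ℕ) {o A n₀ : ℕ} (ho : Nat.card T = o)
    (hA : Nat.card (MulAut T) ∣ A) (hps : ∀ p ∈ r :: ps, p.Prime) (hc : chkP r ps o A n₀ = true) {p n : ℕ}
    (hp : p.Prime) (hd : p ∣ Nat.card T) (hpr : p ≠ r) (hn : n₀ ≤ n) : DeadP p n T := by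
  rw [chkP, Bool.and_eq_true, Bool.and_eq_true, Nat.beq_eq] at hc
  obtain ⟨h1, h2, h3⟩ := hc
  have h2' := Nat.le_of_ble_eq_true h2
  rw [ho] at hd
  have h4 : p ∈ ps := by
    rcases List.mem_cons.1 (mem_of_strAll hp (r :: ps) o hps h1 hd) with h | h
    · exact absurd h hpr
    · exact h
  rw [List.all_eq_true] at h3
  intro k m h hk hcp
  rw [ho] at hcp
  exact oneP_spec hp h2' (h3 p h4) hn hk (CP.of_dvd hA hcp)

end Cfsg.Agent.H337.HT

private theorem dce_327e5643dd82 : _root_.True := by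
  try have : _root_.True := by simp only [_root_.Cfsg.Agent.H337.HT.strAll.eq_1]
  try have : _root_.True := by simp only [_root_.Cfsg.Agent.H337.HT.strp.eq_def]
  try have : _root_.True := by simp only [_root_.Cfsg.Agent.H337.HT.oneP.eq_1]
  try have : _root_.True := by simp only [_root_.Cfsg.Agent.H337.HT.strAll.eq_def]
  try have : _root_.True := by simp only [_root_.Cfsg.Agent.H337.HT.strAll.eq_2]
  try have : _root_.True := by simp only [_root_.Cfsg.Agent.H337.HT.strp.eq_2]
  try have : _root_.True := by simp only [_root_.Cfsg.Agent.H337.HT.strp.eq_1]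
  try have : _root_.True := by simp only [_root_.Cfsg.Agent.H337.HT.chkP.eq_1]
  exact _root_.True.intro
end
end
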